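import Groth.Agent.Lib.SGA1Sub21.Topology
import Groth.Agent.Lib.EtSite.RadicialEtale
import Mathlib.AlgebraicGeometry.Morphisms.Etale

/-!
# Universally submersive morphisms are descent morphisms for étale schemes
-/

set_option autoImplicit false
set_option backward.isDefEq.respectTransparency false

universe u

open CategoryTheory CategoryTheory.Limits AlgebraicGeometry

namespace GrothLib.SGA1Sub21

theorem existsUnique_descend_section {X X' Z : Scheme.{u}} (π : X' ⟶ X) (hπ : SGA1.UnivSubmersive π)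
    (r : Z ⟶ X) [Etale r] (s : X' ⟶ Z) (hs : s ≫ r = π)
    (hcoc : pullback.fst π π ≫ s = pullback.snd π π ≫ s) :
    ∃! u : X ⟶ Z, u ≫ r = 𝟙 X ∧ π ≫ u = s := by
  let σ : X' ⟶ pullback r π := pullback.lift s (𝟙 X') (by rw [hs, Category.id_comp])
  let ρ := pullback.fst r π
  have hσ : σ ≫ pullback.snd r π = 𝟙 X' := pullback.lift_snd _ _ _
  have hσρ : σ ≫ ρ = s := pullback.lift_fst _ _ _
  haveI : Mono σ := mono_of_mono_fac hσ
  haveI : Etale (σ ≫ pullback.snd r π) := hσ.symm ▸ inferInstanceAs (Etale (𝟙 X'))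
  haveI : Etale σ := Etale.of_comp σ (pullback.snd r π)
  haveI : IsOpenImmersion σ := IsOpenImmersion.of_flat_of_mono σ
  haveI := surjective hπ
  have hρ : SGA1.UnivSubmersive ρ := MorphismProperty.pullback_fst r π hπ
  have hsat : ρ ⁻¹' (ρ '' Set.range σ) = Set.range σ := by
    refine Set.Subset.antisymm ?_ (Set.subset_preimage_image _ _)
    rintro b ⟨a, ha, hab⟩
    obtain ⟨w, hw₁, hw₂⟩ := Scheme.Pullback.exists_preimage_pullback (f := ρ) (g := ρ) a b hab
    obtain ⟨x, hx⟩ := ha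
    obtain ⟨p, hp₁, -⟩ := Scheme.Pullback.exists_preimage_pullback (f := pullback.fst ρ ρ) (g := σ) w x
      (hw₁.trans hx.symm)
    let t := pullback.fst (pullback.fst ρ ρ) σ
    let x₁ := pullback.snd (pullback.fst ρ ρ) σ
    let x₂ := t ≫ pullback.snd ρ ρ ≫ pullback.snd r π
    have h1 : t ≫ pullback.fst ρ ρ = x₁ ≫ σ := pullback.condition
    have hρ' : t ≫ pullback.snd ρ ρ ≫ ρ = x₁ ≫ s := by
      rw [← pullback.condition, ← Category.assoc, h1, Category.assoc, hσρ]
    have hx : x₁ ≫ π = x₂ ≫ π := by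
      calc x₁ ≫ π = (x₁ ≫ s) ≫ r := by rw [Category.assoc, hs]
        _ = (t ≫ pullback.snd ρ ρ ≫ ρ) ≫ r := by rw [hρ']
        _ = x₂ ≫ π := by simp only [x₂, ρ, Category.assoc, pullback.condition]
    have hss : x₁ ≫ s = x₂ ≫ s := by
      have := congrArg (pullback.lift x₁ x₂ hx ≫ ·) hcoc
      simpa using this
    have h2 : t ≫ pullback.snd ρ ρ = x₂ ≫ σ := by
      apply pullback.hom_ext
      · rw [Category.assoc, Category.assoc]
        change t ≫ pullback.snd ρ ρ ≫ ρ = x₂ ≫ σ ≫ ρ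
        rw [hρ', hσρ, hss]
      · rw [Category.assoc, Category.assoc, hσ, Category.comp_id]
    refine ⟨x₂ p, ?_⟩
    rw [← Scheme.Hom.comp_apply, ← h2, Scheme.Hom.comp_apply, show t p = w from hp₁, hw₂]
  let V : Z.Opens := ⟨ρ '' Set.range σ, (isQuotientMap hρ).isOpen_preimage.1
    (hsat.symm ▸ σ.isOpenEmbedding.isOpen_range)⟩
  haveI : UniversallyInjective (pullback.snd (V.ι ≫ r) π) := by
    let m : pullback (V.ι ≫ r) π ⟶ pullback r π :=
      pullback.lift (pullback.fst _ _ ≫ V.ι) (pullback.snd _ _) (by rw [Category.assoc, pullback.condition])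
    have hm : Set.range m ⊆ Set.range σ := by
      rintro _ ⟨q, rfl⟩
      rw [← hsat]
      show ρ (m q) ∈ ρ '' Set.range σ
      rw [← Scheme.Hom.comp_apply, show m ≫ ρ = pullback.fst _ _ ≫ V.ι from pullback.lift_fst _ _ _,
        Scheme.Hom.comp_apply]
      exact (pullback.fst (V.ι ≫ r) π q).2
    have hl : IsOpenImmersion.lift σ m hm = pullback.snd (V.ι ≫ r) π := by
      have := congrArg (· ≫ pullback.snd r π) (IsOpenImmersion.lift_fac σ m hm)
      simp only [Category.assoc, hσ, Category.comp_id] at this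
      rw [this]
      exact pullback.lift_snd _ _ _
    haveI : Mono m := ⟨fun a b hab => by
      have e1 := congrArg (· ≫ pullback.fst r π) hab
      have e2 := congrArg (· ≫ pullback.snd r π) hab
      simp only [m, Category.assoc, pullback.lift_fst, pullback.lift_snd] at e1 e2
      exact pullback.hom_ext ((cancel_mono V.ι).1 (by simpa only [Category.assoc] using e1)) e2⟩
    haveI : Mono (IsOpenImmersion.lift σ m hm) :=
      mono_of_mono_fac (IsOpenImmersion.lift_fac σ m hm)
    haveI : Mono (pullback.snd (V.ι ≫ r) π) := hl ▸ inferInstance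
    infer_instance
  haveI : UniversallyInjective (V.ι ≫ r) :=
    GrothLib.EtSite.universallyInjective_of_isPullback (IsPullback.of_hasPullback (V.ι ≫ r) π)
  have hsV : Set.range s ⊆ Set.range V.ι := by
    rw [Scheme.Opens.range_ι]
    rintro _ ⟨x, rfl⟩
    exact ⟨σ x, ⟨x, rfl⟩, by rw [← Scheme.Hom.comp_apply, hσρ]⟩
  let k := IsOpenImmersion.lift V.ι s hsV
  have hk : k ≫ V.ι = s := IsOpenImmersion.lift_fac _ _ _
  haveI : Surjective (V.ι ≫ r) := by
    haveI : Surjective (k ≫ V.ι ≫ r) := by rw [← Category.assoc, hk, hs]; infer_instance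
    exact Surjective.of_comp k _
  haveI : IsIso (V.ι ≫ r) := GrothLib.EtSite.isIso_of_etale_universallyInjective _
  refine ⟨inv (V.ι ≫ r) ≫ V.ι, ⟨by rw [Category.assoc, IsIso.inv_hom_id], ?_⟩, fun n ⟨hn, hns⟩ => ?_⟩
  · have : π = k ≫ V.ι ≫ r := by rw [← Category.assoc, hk, hs]
    rw [this, Category.assoc, IsIso.hom_inv_id_assoc, hk]
  · have hnV : Set.range n ⊆ Set.range V.ι := by
      rintro _ ⟨x, rfl⟩
      obtain ⟨x', rfl⟩ := π.surjective x
      rw [← Scheme.Hom.comp_apply, hns]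
      exact hsV ⟨x', rfl⟩
    have : IsOpenImmersion.lift V.ι n hnV = inv (V.ι ≫ r) := by
      rw [← cancel_mono (V.ι ≫ r), IsIso.inv_hom_id, ← Category.assoc, IsOpenImmersion.lift_fac, hn]
    rw [← this, IsOpenImmersion.lift_fac]

/-- Descent of morphisms into an étale scheme. -/
theorem existsUnique_descend_hom {S S' X Y : Scheme.{u}} (g : S' ⟶ S) (hg : SGA1.UnivSubmersive g)
    (p : X ⟶ S) (q : Y ⟶ S) [Etale q] (h : pullback p g ⟶ Y) (hh : h ≫ q = pullback.fst p g ≫ p)
    (hcoc : pullback.fst (pullback.fst p g) (pullback.fst p g) ≫ h =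
      pullback.snd (pullback.fst p g) (pullback.fst p g) ≫ h) :
    ∃! u : X ⟶ Y, u ≫ q = p ∧ h = pullback.fst p g ≫ u := by
  obtain ⟨u, ⟨hu₁, hu₂⟩, huu⟩ := existsUnique_descend_section (pullback.fst p g)
    (MorphismProperty.pullback_fst p g hg) (pullback.fst p q)
    (pullback.lift (pullback.fst p g) h hh.symm) (pullback.lift_fst _ _ _) (by
      apply pullback.hom_ext <;> simp [hcoc, pullback.condition])
  refine ⟨u ≫ pullback.snd p q, ⟨?_, ?_⟩, fun n ⟨hn₁, hn₂⟩ => ?_⟩
  · rw [Category.assoc, ← pullback.condition, ← Category.assoc, hu₁, Category.id_comp]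
  · rw [← Category.assoc, hu₂, pullback.lift_snd]
  · rw [← huu (pullback.lift (𝟙 X) n (by rw [Category.id_comp, hn₁])) ⟨pullback.lift_fst _ _ _, ?_⟩,
      pullback.lift_snd]
    apply pullback.hom_ext <;> simp [hn₂]

end GrothLib.SGA1Sub21
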