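import Groth.Agent.Lib.SGA1Sub21.EtaleHom
import Groth.Agent.Lib.EtBasicB.OverField
import Groth.Agent.Lib.FEt21.Basic
import Mathlib.Topology.Separation.Connected

/-!
# Submersive morphisms with geometrically connected fibres
-/

set_option autoImplicit false
set_option backward.isDefEq.respectTransparency false

universe u

open CategoryTheory CategoryTheory.Limits AlgebraicGeometry

namespace GrothLib.SGA1Sub21

/-- Over a separably closed field, points of an étale scheme with the same image are equal. -/
theorem point_ext {K : Type u} [Field K] {D : Scheme.{u}} (f : D ⟶ Spec (CommRingCat.of K)) [Etale f]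
    (s t : Spec (CommRingCat.of K) ⟶ D) (hs : s ≫ f = 𝟙 _) (ht : t ≫ f = 𝟙 _)
    (h : s default = t default) : s = t := by
  haveI : Mono s := mono_of_mono_fac hs
  haveI : Etale (s ≫ f) := hs.symm ▸ inferInstanceAs (Etale (𝟙 _))
  haveI : Etale s := Etale.of_comp s f
  haveI : IsOpenImmersion s := IsOpenImmersion.of_flat_of_mono s
  have hr : Set.range t ⊆ Set.range s := by
    rintro _ ⟨x, rfl⟩
    rw [Subsingleton.elim x default, ← h]
    exact ⟨default, rfl⟩
  have e := IsOpenImmersion.lift_fac s t hr
  have e1 : IsOpenImmersion.lift s t hr = 𝟙 _ := by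
    have := congrArg (· ≫ f) e
    rw [Category.assoc, hs, Category.comp_id, ht] at this
    exact this
  rw [← e, e1, Category.id_comp]

theorem connectedSpace_of_conn_fibres {S' S : Scheme.{u}} (g : S' ⟶ S) (hg : SGA1.UnivSubmersive g)
    (hconn : ∀ (K : Type u) [Field K] [IsAlgClosed K] (ξ : Spec (CommRingCat.of K) ⟶ S), ConnectedSpace ↑(pullback g ξ))
    [ConnectedSpace S] : ConnectedSpace S' := by
  haveI := surjective hg
  have key : ∀ C : Set S', IsClopen C → g ⁻¹' (g '' C) = C := by
    intro C hC
    refine Set.Subset.antisymm ?_ (Set.subset_preimage_image _ _)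
    rintro b ⟨a, ha, hab⟩
    let ξ := FEt21.geomPt S (g b)
    haveI := hconn _ ξ
    have hξ : ξ default = g b := FEt21.geomPt_default S (g b)
    obtain ⟨z, hz, -⟩ := Scheme.Pullback.exists_preimage_pullback (f := g) (g := ξ) a default (hab.trans hξ.symm)
    obtain ⟨w, hw, -⟩ := Scheme.Pullback.exists_preimage_pullback (f := g) (g := ξ) b default hξ.symm
    have hall : pullback.fst g ξ ⁻¹' C = Set.univ :=
      IsClopen.eq_univ (hC.preimage (pullback.fst g ξ).continuous) ⟨z, by rwa [Set.mem_preimage, hz]⟩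
    rw [← hw]
    exact hall.ge (Set.mem_univ w)
  refine connectedSpace_iff_clopen.mpr ⟨?_, fun C hC => ?_⟩
  · obtain ⟨s⟩ := (inferInstance : Nonempty S)
    exact ⟨(g.surjective s).choose⟩
  · have h1 : IsClopen (g '' C) := ⟨(isQuotientMap hg).isClosed_preimage.1 ((key C hC).symm ▸ hC.1),
      (isQuotientMap hg).isOpen_preimage.1 ((key C hC).symm ▸ hC.2)⟩
    rcases isClopen_iff.1 h1 with h | h
    · exact Or.inl (Set.image_eq_empty.1 h)
    · exact Or.inr (by rw [← key C hC, h, Set.preimage_univ])

/-- The cocycle condition holds automatically for geometrically connected fibres. -/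
theorem cocycle_of_conn_fibres {S S' X Y : Scheme.{u}} (g : S' ⟶ S)
    (hconn : ∀ (K : Type u) [Field K] [IsAlgClosed K] (ξ : Spec (CommRingCat.of K) ⟶ S), ConnectedSpace ↑(pullback g ξ))
    (p : X ⟶ S) (q : Y ⟶ S) [Etale q] (h : pullback p g ⟶ Y) (hh : h ≫ q = pullback.fst p g ≫ p) :
    pullback.fst (pullback.fst p g) (pullback.fst p g) ≫ h =
      pullback.snd (pullback.fst p g) (pullback.fst p g) ≫ h := by
  let π := pullback.fst p g
  let T := pullback π π
  let u₁ := pullback.fst π π ≫ h
  let u₂ := pullback.snd π π ≫ h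
  let v : T ⟶ pullback q q := pullback.lift u₁ u₂ (by
    simp only [u₁, u₂, Category.assoc, hh]
    exact pullback.condition_assoc _)
  suffices hr : Set.range v ⊆ Set.range (pullback.diagonal q) by
    have e := IsOpenImmersion.lift_fac (pullback.diagonal q) v hr
    have e1 := congrArg (· ≫ pullback.fst q q) e
    have e2 := congrArg (· ≫ pullback.snd q q) e
    simp only [v, Category.assoc, pullback.diagonal_fst, pullback.diagonal_snd, pullback.lift_fst,
      pullback.lift_snd, Category.comp_id] at e1 e2
    exact e1.symm.trans e2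
  rintro _ ⟨t, rfl⟩
  let K := AlgebraicClosure (T.residueField t)
  let τ : Spec (CommRingCat.of K) ⟶ T := FEt21.geomPt T t
  let ξ : Spec (CommRingCat.of K) ⟶ X := τ ≫ pullback.fst π π ≫ π
  haveI := hconn K (ξ ≫ p)
  let m : pullback g (ξ ≫ p) ⟶ pullback p g :=
    pullback.lift (pullback.snd _ _ ≫ ξ) (pullback.fst _ _) ((Category.assoc _ _ _).trans pullback.condition.symm)
  let D := pullback q (ξ ≫ p)
  let h' : pullback g (ξ ≫ p) ⟶ D := pullback.lift (m ≫ h) (pullback.snd _ _) (by
    have hm : m ≫ pullback.fst p g = pullback.snd g (ξ ≫ p) ≫ ξ := pullback.lift_fst _ _ _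
    exact (Category.assoc m h q).trans ((congrArg (m ≫ ·) hh).trans ((Category.assoc _ _ _).symm.trans
      ((congrArg (· ≫ p) hm).trans (Category.assoc _ _ _)))))
  haveI : LocallyQuasiFinite (pullback.snd q (ξ ≫ p)) := EtBasicB.locallyQuasiFinite_of_unramified _
  haveI : IsLocallyArtinian D := IsLocallyArtinian.of_locallyQuasiFinite (pullback.snd q (ξ ≫ p))
  have hconst : ∀ a b, h' a = h' b := fun a b => PreconnectedSpace.constant inferInstance h'.continuous
  let σ : ∀ (pr : T ⟶ pullback p g), pr ≫ π = pullback.fst π π ≫ π →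
      (Spec (CommRingCat.of K) ⟶ pullback g (ξ ≫ p)) := fun pr hpr =>
    pullback.lift (τ ≫ pr ≫ pullback.snd p g) (𝟙 _) (by
      rw [Category.id_comp]
      simp only [ξ, Category.assoc, ← reassoc_of% hpr]
      simp [π, pullback.condition])
  have hσ : ∀ pr hpr, σ pr hpr ≫ h' ≫ pullback.fst q (ξ ≫ p) = τ ≫ pr ≫ h := by
    intro pr hpr
    have : σ pr hpr ≫ m = τ ≫ pr := by
      apply pullback.hom_ext
      · simp [σ, m, ξ, π, hpr]
        exact Category.id_comp _
      · simp [σ, m]
    simp only [h', pullback.lift_fst]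
    rw [← Category.assoc, this, Category.assoc]
  have key : τ ≫ u₁ = τ ≫ u₂ := by
    rw [← hσ (pullback.fst π π) rfl, ← hσ (pullback.snd π π) pullback.condition.symm,
      ← Category.assoc, ← Category.assoc]
    congr 1
    exact point_ext (pullback.snd q (ξ ≫ p)) _ _ (by simp [σ, h']) (by simp [σ, h']) (hconst _ _)
  have : τ ≫ v = (τ ≫ u₁) ≫ pullback.diagonal q := by
    apply pullback.hom_ext <;> simp [v, key]
  refine ⟨(τ ≫ u₁) default, ?_⟩
  rw [← Scheme.Hom.comp_apply, ← this, Scheme.Hom.comp_apply, FEt21.geomPt_default]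

end GrothLib.SGA1Sub21
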