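import Groth.Prelude.Def_SGA1
import Mathlib.AlgebraicGeometry.Morphisms.Proper
import Mathlib.AlgebraicGeometry.Morphisms.UniversallyOpen
import Mathlib.AlgebraicGeometry.Morphisms.Immersion
import Mathlib.AlgebraicGeometry.PullbackCarrier
import Mathlib.CategoryTheory.MorphismProperty.Descent

/-!
# Topological properties descend along universally submersive morphisms
-/

set_option autoImplicit false
set_option backward.isDefEq.respectTransparency false

universe u

open CategoryTheory CategoryTheory.Limits AlgebraicGeometry MorphismProperty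

namespace GrothLib.SGA1Sub21

instance : SGA1.UnivSubmersive.{u}.IsStableUnderBaseChange :=
  universally_isStableUnderBaseChange _

theorem isQuotientMap {X Y : Scheme.{u}} {g : X ⟶ Y} (hg : SGA1.UnivSubmersive g) :
    Topology.IsQuotientMap g :=
  universally_le _ _ hg

theorem surjective {X Y : Scheme.{u}} {g : X ⟶ Y} (hg : SGA1.UnivSubmersive g) : Surjective g :=
  ⟨(isQuotientMap hg).surjective⟩

theorem image_preimage {A X Y Z : Scheme.{u}} {fst : A ⟶ X} {snd : A ⟶ Y} {f : X ⟶ Z} {g : Y ⟶ Z}
    (h : IsPullback fst snd f g) (S : Set Y) : fst '' (snd ⁻¹' S) = f ⁻¹' (g '' S) := by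
  ext x
  constructor
  · rintro ⟨a, ha, rfl⟩
    exact ⟨snd a, ha, by rw [← Scheme.Hom.comp_apply, ← h.w, Scheme.Hom.comp_apply]⟩
  · rintro ⟨y, hy, hyx⟩
    obtain ⟨a, ha₁, ha₂⟩ := Scheme.exists_preimage_of_isPullback h x y hyx.symm
    exact ⟨a, by simpa [ha₂] using hy, ha₁⟩

instance descendsAlong_openMap : DescendsAlong (topologically @IsOpenMap) SGA1.UnivSubmersive.{u} where
  of_isPullback {A X Y Z fst snd f g} h hf hfst U hU := by
    rw [← (isQuotientMap hf).isOpen_preimage, ← image_preimage h]
    exact hfst _ (hU.preimage snd.continuous)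

instance descendsAlong_closedMap : DescendsAlong (topologically @IsClosedMap) SGA1.UnivSubmersive.{u} where
  of_isPullback {A X Y Z fst snd f g} h hf hfst U hU := by
    rw [← (isQuotientMap hf).isClosed_preimage, ← image_preimage h]
    exact hfst _ (hU.preimage snd.continuous)

theorem of_isPullback_universally {P : MorphismProperty Scheme.{u}}
    [P.DescendsAlong SGA1.UnivSubmersive] [P.RespectsIso] {A X Y Z : Scheme.{u}} {fst : A ⟶ X}
    {snd : A ⟶ Y} {f : X ⟶ Z} {g : Y ⟶ Z} (h : IsPullback fst snd f g) (hf : SGA1.UnivSubmersive f)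
    (hfst : P.universally fst) : P.universally g := by
  intro Y' Z' a b g' hsq
  let A' := pullback (pullback.fst f b ≫ f) g
  refine MorphismProperty.of_isPullback_of_descendsAlong (P := P) (Q := SGA1.UnivSubmersive)
    (IsPullback.of_hasPullback (pullback.snd f b) g')
    (MorphismProperty.pullback_snd f b hf) ?_
  have h1 : IsPullback (pullback.snd (pullback.snd f b) g' ≫ a) (pullback.fst (pullback.snd f b) g') g
      (pullback.fst f b ≫ f) := by
    rw [pullback.condition]
    exact (IsPullback.of_hasPullback (pullback.snd f b) g').flip.paste_horiz hsq.flip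
  let l : pullback (pullback.snd f b) g' ⟶ A := h.lift (pullback.fst _ _ ≫ pullback.fst f b)
    (pullback.snd _ _ ≫ a) (by
      simp only [Category.assoc, pullback.condition, reassoc_of% pullback.condition, ← hsq.w])
  refine hfst l (pullback.fst f b) _ ?_
  refine (IsPullback.of_right (h₁₂ := snd) (v₁₃ := g) (h₂₂ := f) ?_ (h.lift_fst _ _ _) h.flip).flip
  rw [h.lift_snd]
  exact h1

theorem isSeparated_iff_diagonal {X Y : Scheme.{u}} (f : X ⟶ Y) :
    IsSeparated f ↔ topologically (@IsClosedMap) (pullback.diagonal f) := by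
  refine ⟨fun _ => (pullback.diagonal f).isClosedEmbedding.isClosedMap, fun h => ⟨?_⟩⟩
  exact IsClosedImmersion.of_isPreimmersion _ h.isClosed_range

theorem isSeparated_of_isPullback {A X Y Z : Scheme.{u}} {fst : A ⟶ X}
    {snd : A ⟶ Y} {f : X ⟶ Z} {g : Y ⟶ Z} (h : IsPullback fst snd f g) (hf : SGA1.UnivSubmersive f)
    [IsSeparated fst] : IsSeparated g :=
  (isSeparated_iff_diagonal g).2
    (MorphismProperty.of_isPullback_of_descendsAlong
      (P := (topologically @IsClosedMap : MorphismProperty Scheme.{u}).diagonal) h hf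
      ((isSeparated_iff_diagonal fst).1 inferInstance))

theorem quasiCompact_of_isPullback {A X Y Z : Scheme.{u}} {fst : A ⟶ X} {snd : A ⟶ Y} {f : X ⟶ Z}
    {g : Y ⟶ Z} (h : IsPullback fst snd f g) [Surjective f] [QuasiCompact f] [QuasiCompact fst] :
    QuasiCompact g := by
  refine ⟨fun U hU hU' => ?_⟩
  haveI : Surjective snd := MorphismProperty.of_isPullback h ‹Surjective f›
  have hX : IsCompact (f ⁻¹' U) := QuasiCompact.isCompact_preimage (f := f) U hU hU'
  have hA : IsCompact (fst ⁻¹' (f ⁻¹' U)) := QuasiCompact.isCompact_preimage (f := fst) _ (hU.preimage f.continuous) hX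
  have : g ⁻¹' U = snd '' (fst ⁻¹' (f ⁻¹' U)) := by
    rw [← Set.preimage_comp, show ⇑f ∘ ⇑fst = ⇑g ∘ ⇑snd from congrArg (fun φ : A ⟶ Z => ⇑φ) h.w,
      Set.preimage_comp, Set.image_preimage_eq _ snd.surjective]
  rw [this]
  exact hA.image snd.continuous

end GrothLib.SGA1Sub21
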